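import Mathlib.AlgebraicGeometry.Pullbacks
import Mathlib.AlgebraicGeometry.PullbackCarrier
import Mathlib.AlgebraicGeometry.ResidueField
import Mathlib.FieldTheory.Normal.Defs

/-!
# Fibres of a normal base field extension are Galois orbits
-/

set_option autoImplicit false
set_option backward.isDefEq.respectTransparency false
universe u

open CategoryTheory CategoryTheory.Limits AlgebraicGeometry

namespace Groth.Agent.GalFib

variable {k K : Type u} [Field k] [Field K] [Algebra k K]

theorem exists_tau_eq [Normal k K] {X : Scheme.{u}} (f : X ⟶ Spec (CommRingCat.of k))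
    (i : Spec (CommRingCat.of K) ⟶ Spec (CommRingCat.of k))
    (hi : i = Spec.map (CommRingCat.ofHom (algebraMap k K)))
    (τ : (K ≃ₐ[k] K) → (pullback f i ⟶ pullback f i))
    (hτ1 : ∀ σ, τ σ ≫ pullback.fst f i = pullback.fst f i)
    (hτ2 : ∀ σ, τ σ ≫ pullback.snd f i =
      pullback.snd f i ≫ Spec.map (CommRingCat.ofHom (σ : K →+* K)))
    (x y : ↥(pullback f i)) (h : pullback.fst f i x = pullback.fst f i y) :
    ∃ σ, τ σ x = y := by
  obtain ⟨w, hwx, hwy⟩ := Scheme.Pullback.exists_preimage_pullback x y h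
  let W := pullback (pullback.fst f i) (pullback.fst f i)
  let Ω : Type u := W.residueField w
  let a : Spec (CommRingCat.of Ω) ⟶ pullback f i := W.fromSpecResidueField w ≫ pullback.fst _ _
  let b : Spec (CommRingCat.of Ω) ⟶ pullback f i := W.fromSpecResidueField w ≫ pullback.snd _ _
  have hax : a default = x := by
    show pullback.fst (pullback.fst f i) (pullback.fst f i) (W.fromSpecResidueField w default) = x
    rw [Scheme.fromSpecResidueField_apply, hwx]
  have hby : b default = y := by
    show pullback.snd (pullback.fst f i) (pullback.fst f i) (W.fromSpecResidueField w default) = y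
    rw [Scheme.fromSpecResidueField_apply, hwy]
  obtain ⟨χa, hχa⟩ := Spec.map_surjective (a ≫ pullback.snd f i)
  obtain ⟨χb, hχb⟩ := Spec.map_surjective (b ≫ pullback.snd f i)
  have hfst : a ≫ pullback.fst f i = b ≫ pullback.fst f i := by
    simp only [a, b, Category.assoc]
    rw [pullback.condition]
  have hk : CommRingCat.ofHom (algebraMap k K) ≫ χa = CommRingCat.ofHom (algebraMap k K) ≫ χb := by
    apply Spec.map_injective
    rw [Spec.map_comp, Spec.map_comp, hχa, hχb, ← hi]
    have : (a ≫ pullback.fst f i) ≫ f = (b ≫ pullback.fst f i) ≫ f := by rw [hfst]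
    rw [Category.assoc a (pullback.fst f i) f, Category.assoc b (pullback.fst f i) f,
      pullback.condition, ← Category.assoc, ← Category.assoc] at this
    exact this
  letI algkΩ : Algebra k Ω := (χa.hom.comp (algebraMap k K)).toAlgebra
  letI algKΩ : Algebra K Ω := χa.hom.toAlgebra
  haveI : IsScalarTower k K Ω := IsScalarTower.of_algebraMap_eq fun _ => rfl
  let φ : K →ₐ[k] Ω :=
    { χb.hom with commutes' := fun c => (congr(($hk).hom c)).symm }
  let σ : K ≃ₐ[k] K := φ.restrictNormal' K
  have hσ : CommRingCat.ofHom (σ : K →+* K) ≫ χa = χb := by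
    ext c
    exact (AlgHom.restrictNormal_commutes φ K c)
  refine ⟨σ, ?_⟩
  have he : a ≫ τ σ = b := by
    apply pullback.hom_ext
    · rw [Category.assoc, hτ1, hfst]
    · rw [Category.assoc, hτ2, ← Category.assoc, ← hχa, ← Spec.map_comp, hσ, hχb]
  rw [← hax, ← hby, ← he]
  rfl

theorem fst_eq_iff [Normal k K] {X : Scheme.{u}} (f : X ⟶ Spec (CommRingCat.of k))
    (i : Spec (CommRingCat.of K) ⟶ Spec (CommRingCat.of k))
    (hi : i = Spec.map (CommRingCat.ofHom (algebraMap k K)))
    (τ : (K ≃ₐ[k] K) → (pullback f i ⟶ pullback f i))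
    (hτ1 : ∀ σ, τ σ ≫ pullback.fst f i = pullback.fst f i)
    (hτ2 : ∀ σ, τ σ ≫ pullback.snd f i =
      pullback.snd f i ≫ Spec.map (CommRingCat.ofHom (σ : K →+* K)))
    (x y : ↥(pullback f i)) :
    pullback.fst f i x = pullback.fst f i y ↔ ∃ σ, τ σ x = y := by
  refine ⟨exists_tau_eq f i hi τ hτ1 hτ2 x y, ?_⟩
  rintro ⟨σ, rfl⟩
  rw [← Scheme.Hom.comp_apply, hτ1]

end Groth.Agent.GalFib
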