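import Groth.Agent.GalFib.Basic
import Groth.Agent.MorLib.GeomFibre
import Groth.Agent.AlgSpDec.EtCompact
import Groth.Prelude.Def_ResDeg
import Mathlib.AlgebraicGeometry.AlgClosed.Basic
import Mathlib.FieldTheory.Perfect
import Mathlib.FieldTheory.IsAlgClosed.AlgebraicClosure

/-!
# Counting the points over a closed point in an extension to the algebraic closure
-/

set_option autoImplicit false
set_option backward.isDefEq.respectTransparency false
set_option backward.isDefEq.respectTransparency.types false
universe u

open CategoryTheory CategoryTheory.Limits AlgebraicGeometry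

namespace Groth.Agent.GalFib

open Groth.Agent.MorLib.GF

theorem card_lifts_through {U V : Scheme.{u}} {Ω : Type u} [Field Ω] [IsAlgClosed Ω] (π : U ⟶ V)
    (yb : Spec (CommRingCat.of Ω) ⟶ V) (u : U) (hu : π u = pt yb)
    (hfin : (π.residueFieldMap u).hom.Finite) :
    Finite {δ : Spec (CommRingCat.of Ω) ⟶ U // δ ≫ π = yb ∧ pt δ = u} ∧
    Nat.card {δ : Spec (CommRingCat.of Ω) ⟶ U // δ ≫ π = yb ∧ pt δ = u} =
      (letI := (π.residueFieldMap u).hom.toAlgebra
       Field.finSepDegree (V.residueField (π u)) (U.residueField u)) := by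
  obtain ⟨η, rfl⟩ : ∃ η : V.residueField (π u) ⟶ CommRingCat.of Ω,
      yb = Spec.map η ≫ V.fromSpecResidueField (π u) := by
    refine ⟨(V.residueFieldCongr hu).hom ≫ V.descResidueField (Scheme.stalkClosedPointTo yb), ?_⟩
    rw [Spec.map_comp, Category.assoc, Scheme.residueFieldCongr_fromSpecResidueField,
      Scheme.descResidueField_stalkClosedPointTo_fromSpecResidueField]
  letI := (π.residueFieldMap u).hom.toAlgebra
  letI : Algebra (V.residueField (π u)) Ω := η.hom.toAlgebra
  haveI : Module.Finite (V.residueField (π u)) (U.residueField u) := hfin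
  let F : (U.residueField u →ₐ[V.residueField (π u)] Ω) →
      {δ : Spec (CommRingCat.of Ω) ⟶ U //
        δ ≫ π = Spec.map η ≫ V.fromSpecResidueField (π u) ∧ pt δ = u} := fun φ =>
    ⟨Spec.map (CommRingCat.ofHom φ.toRingHom) ≫ U.fromSpecResidueField u, by
      rw [Category.assoc, ← Scheme.Hom.SpecMap_residueFieldMap_fromSpecResidueField,
        ← Spec.map_comp_assoc]
      congr 2
      exact CommRingCat.hom_ext (RingHom.ext fun z => φ.commutes z),
      (Scheme.Hom.comp_apply _ _ _).trans (Scheme.fromSpecResidueField_apply _ _)⟩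
  have hF : Function.Bijective F := by
    refine ⟨fun φ φ' h => ?_, ?_⟩
    · have h1 := (cancel_mono _).mp (congrArg Subtype.val h)
      rw [Spec.map_inj] at h1
      exact AlgHom.ext fun z => congr($h1 z)
    rintro ⟨δ, hδ, hδu⟩
    obtain ⟨ψ, rfl⟩ : ∃ ψ : U.residueField u ⟶ CommRingCat.of Ω,
        δ = Spec.map ψ ≫ U.fromSpecResidueField u := by
      refine ⟨(U.residueFieldCongr hδu.symm).hom ≫ U.descResidueField (Scheme.stalkClosedPointTo δ), ?_⟩
      rw [Spec.map_comp, Category.assoc, Scheme.residueFieldCongr_fromSpecResidueField,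
        Scheme.descResidueField_stalkClosedPointTo_fromSpecResidueField]
    rw [Category.assoc, ← Scheme.Hom.SpecMap_residueFieldMap_fromSpecResidueField,
      ← Spec.map_comp_assoc, cancel_mono, Spec.map_inj] at hδ
    exact ⟨{ ψ.hom with commutes' := fun z => congr($hδ z) }, Subtype.ext rfl⟩
  haveI : Finite (U.residueField u →ₐ[V.residueField (π u)] Ω) := inferInstance
  refine ⟨Finite.of_surjective F hF.2, ?_⟩
  rw [← Nat.card_eq_of_bijective F hF, Field.finSepDegree_eq_of_isAlgClosed _ _ Ω]

variable {k : Type u} [Field k]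

local notation "kb" => AlgebraicClosure k

local notation "ι₀" => Spec.map (CommRingCat.ofHom (algebraMap k (AlgebraicClosure k)))

instance isIntegralHom_base : IsIntegralHom ι₀ := by
  refine (IsIntegralHom.SpecMap_iff).2 ?_
  exact fun a => (Algebra.IsAlgebraic.isAlgebraic a).isIntegral

instance surjective_base : Surjective ι₀ :=
  ⟨fun s => ⟨default, Subsingleton.elim (α := PrimeSpectrum k) _ _⟩⟩

theorem isClosed_singleton_iff {X : Scheme.{u}} (f : X ⟶ Spec (CommRingCat.of k))
    (y : ↥(pullback f ι₀)) :
    IsClosed ({y} : Set ↥(pullback f ι₀)) ↔ IsClosed ({pullback.fst f ι₀ y} : Set X) := by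
  haveI : IsIntegralHom (pullback.fst f ι₀) := MorphismProperty.pullback_fst _ _ inferInstance
  constructor
  · intro h
    simpa using (pullback.fst f ι₀).isClosedMap _ h
  · intro h
    rw [← closure_subset_iff_isClosed]
    intro z hz
    have hsp : y ⤳ z := specializes_iff_mem_closure.2 hz
    have he : pullback.fst f ι₀ y = pullback.fst f ι₀ z := by
      have : pullback.fst f ι₀ z ∈ closure ({pullback.fst f ι₀ y} : Set X) :=
        specializes_iff_mem_closure.1 (hsp.map (pullback.fst f ι₀).continuous)
      rw [h.closure_eq] at this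
      exact (Set.mem_singleton_iff.1 this).symm
    rw [Set.mem_singleton_iff]
    exact (Groth.Agent.AlgSpDec.eq_of_specializes_of_isIntegralHom _ hsp he).symm

variable [PerfectField k]

/-- Over a perfect field the number of points over a closed point is its residue degree. -/
theorem encard_fibre {X : Scheme.{u}} (f : X ⟶ Spec (CommRingCat.of k)) [LocallyOfFiniteType f]
    (x : X) (hx : IsClosed ({x} : Set X)) :
    ((pullback.fst f ι₀) ⁻¹' {x}).Finite ∧
      ((pullback.fst f ι₀) ⁻¹' {x}).ncard = EGA4loc.residueDegree f x := by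
  haveI : LocallyOfFiniteType (pullback.snd f ι₀) := MorphismProperty.pullback_snd _ _ ‹_›
  letI := (f.residueFieldMap x).hom.toAlgebra
  have hfin : (f.residueFieldMap x).hom.Finite := by
    haveI := isClosed_singleton_iff_isClosedImmersion.1 hx
    haveI : IsFinite (X.fromSpecResidueField x ≫ f) := by
      rw [isFinite_iff_locallyOfFiniteType_of_jacobsonSpace]
      infer_instance
    have hc : IsFinite (Spec.map (f.residueFieldMap x) ≫
        (Spec (CommRingCat.of k)).fromSpecResidueField (f x)) := by
      rw [Scheme.Hom.SpecMap_residueFieldMap_fromSpecResidueField]; infer_instance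
    haveI := hc
    exact (IsFinite.SpecMap_iff _).1 (IsFinite.of_comp (Spec.map (f.residueFieldMap x))
      ((Spec (CommRingCat.of k)).fromSpecResidueField (f x)))
  obtain ⟨hfinite, hcard⟩ := card_lifts_through f ι₀ x (Subsingleton.elim (α := PrimeSpectrum k) _ _) hfin
  haveI : PerfectField ((Spec (CommRingCat.of k)).residueField (f x)) := by
    have hcl : IsClosed ({f x} : Set ↥(Spec (CommRingCat.of k))) := by
      rw [show ({f x} : Set ↥(Spec (CommRingCat.of k))) = Set.univ from
        Set.eq_univ_of_forall fun s => Subsingleton.elim (α := PrimeSpectrum k) _ _]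
      exact isClosed_univ
    haveI := isClosed_singleton_iff_isClosedImmersion.1 hcl
    obtain ⟨φ, hφ⟩ := Spec.map_surjective ((Spec (CommRingCat.of k)).fromSpecResidueField (f x))
    haveI : IsClosedImmersion (Spec.map φ) := by rw [hφ]; infer_instance
    haveI : Surjective (Spec.map φ) :=
      ⟨fun s => ⟨default, Subsingleton.elim (α := PrimeSpectrum k) _ _⟩⟩
    haveI : IsIso (Spec.map φ) := isIso_of_isClosedImmersion_of_surjective _
    haveI : IsIso (Scheme.Spec.map φ.op) := ‹IsIso (Spec.map φ)›
    haveI : IsIso φ.op := isIso_of_reflects_iso φ.op Scheme.Spec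
    haveI : IsIso φ := isIso_of_op φ
    exact PerfectField.of_ringEquiv (RingEquiv.ofBijective φ.hom
      (ConcreteCategory.bijective_of_isIso φ))
  haveI : Module.Finite ((Spec (CommRingCat.of k)).residueField (f x)) (X.residueField x) := hfin
  rw [Field.finSepDegree_eq_finrank_of_isSeparable] at hcard
  let P := {δ : Spec (CommRingCat.of kb) ⟶ X // δ ≫ f = ι₀ ∧ pt δ = x}
  have key : ∀ δ : P, pullback.fst f ι₀
      ((pullback.lift δ.1 (𝟙 _) (by rw [δ.2.1, Category.id_comp]) :
        Spec (CommRingCat.of kb) ⟶ pullback f ι₀) (IsLocalRing.closedPoint kb)) = x := fun δ => by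
    rw [← Scheme.Hom.comp_apply, pullback.lift_fst]
    exact δ.2.2
  let Φ : P → ↥((pullback.fst f ι₀) ⁻¹' {x}) := fun δ => ⟨_, key δ⟩
  have hΦ : Function.Bijective Φ := by
    constructor
    · intro δ δ' h
      have h' := congrArg Subtype.val h
      have := AlgebraicGeometry.ext_of_apply_closedPoint_eq (pullback.snd f ι₀)
        (pullback.lift_snd _ _ _) (pullback.lift_snd _ _ _) h'
      have h2 := congrArg (· ≫ pullback.fst f ι₀) this
      simp only [pullback.lift_fst] at h2
      exact Subtype.ext h2
    · rintro ⟨y, hy⟩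
      have hyc : IsClosed ({y} : Set ↥(pullback f ι₀)) :=
        (isClosed_singleton_iff f y).2 (by rw [show pullback.fst f ι₀ y = x from hy]; exact hx)
      let s := pointOfClosedPoint (pullback.snd f ι₀) y hyc
      refine ⟨⟨s ≫ pullback.fst f ι₀, ?_, ?_⟩, ?_⟩
      · rw [Category.assoc, pullback.condition,
          pointOfClosedPoint_comp_assoc (pullback.snd f ι₀) y hyc]
      · show (s ≫ pullback.fst f ι₀) _ = x
        rw [Scheme.Hom.comp_apply, pointOfClosedPoint_apply]
        exact hy
      · apply Subtype.ext
        show (pullback.lift (s ≫ pullback.fst f ι₀) (𝟙 _) _ :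
          Spec (CommRingCat.of kb) ⟶ pullback f ι₀) _ = y
        have : pullback.lift (s ≫ pullback.fst f ι₀) (𝟙 _) (by
            rw [Category.assoc, pullback.condition,
              pointOfClosedPoint_comp_assoc (pullback.snd f ι₀) y hyc, Category.id_comp]) = s := by
          apply pullback.hom_ext
          · simp
          · rw [pullback.lift_snd, pointOfClosedPoint_comp]
        rw [this, pointOfClosedPoint_apply]
  haveI : Finite P := hfinite
  refine ⟨Set.finite_coe_iff.1 (Finite.of_surjective Φ hΦ.2), ?_⟩
  rw [← Nat.card_coe_set_eq, ← Nat.card_eq_of_bijective Φ hΦ]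
  exact hcard

end Groth.Agent.GalFib
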