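import Groth.Agent.GalFib.Count
import Groth.Prelude.Def_FinFr
import Mathlib.FieldTheory.Finite.Basic
import Mathlib.FieldTheory.Normal.Basic
import Mathlib.FieldTheory.Galois.Basic
import Mathlib.FieldTheory.Finite.GaloisField

/-!
# Frobenius stable closed subsets over a finite field
-/

set_option autoImplicit false
set_option backward.isDefEq.respectTransparency false
set_option backward.isDefEq.respectTransparency.types false
universe u

open CategoryTheory CategoryTheory.Limits AlgebraicGeometry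

namespace Groth.Agent.GalFib

/-- The absolute `q`-th power endomorphism acts on field valued points through the `q`-th power of
the field. -/
theorem comp_absFrob {X : Scheme.{u}} (FX : X ⟶ X) (hle : ∀ U : X.Opens, U ≤ FX ⁻¹ᵁ U) (q : ℕ)
    (hFapp : ∀ (U : X.Opens) (s : Γ(X, U)), (FX.appLE U U (hle U)).hom s = s ^ q)
    {K : Type u} [Field K] (φ : K →+* K) (hφ : ∀ c, φ c = c ^ q)
    (a : Spec (CommRingCat.of K) ⟶ X) :
    a ≫ FX = Spec.map (CommRingCat.ofHom φ) ≫ a := by
  let pt : (Spec (CommRingCat.of K) : Scheme.{u}) := default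
  obtain ⟨U, hU, hxU, -⟩ := exists_isAffineOpen_mem_and_subset (x := a pt) (U := ⊤) trivial
  have hr : Set.range a ⊆ Set.range hU.fromSpec := by
    rw [hU.range_fromSpec]
    rintro _ ⟨t, rfl⟩
    rw [Subsingleton.elim (α := PrimeSpectrum K) t pt]
    exact hxU
  obtain ⟨χ, rfl⟩ : ∃ χ : Γ(X, U) ⟶ CommRingCat.of K, a = Spec.map χ ≫ hU.fromSpec :=
    ⟨Spec.preimage (IsOpenImmersion.lift hU.fromSpec a hr), by
      rw [Spec.map_preimage, IsOpenImmersion.lift_fac]⟩
  have e := IsAffineOpen.SpecMap_appLE_fromSpec FX hU hU (hle U)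
  rw [Category.assoc, ← e, ← Category.assoc, ← Category.assoc, ← Spec.map_comp, ← Spec.map_comp]
  congr 2
  ext s
  show χ.hom ((FX.appLE U U (hle U)).hom s) = φ (χ.hom s)
  rw [hFapp, map_pow, hφ]

variable {k : Type u} [Field k] [Finite k]

local notation "kb" => AlgebraicClosure k

local notation "ι₀" => Spec.map (CommRingCat.ofHom (algebraMap k (AlgebraicClosure k)))

theorem mem_of_same_image {X : Scheme.{u}} (f : X ⟶ Spec (CommRingCat.of k))
    [LocallyOfFiniteType f] (FX : X ⟶ X) (hle : ∀ U : X.Opens, U ≤ FX ⁻¹ᵁ U)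
    (hFapp : ∀ (U : X.Opens) (s : Γ(X, U)), (FX.appLE U U (hle U)).hom s = s ^ Nat.card k)
    (F : pullback f ι₀ ⟶ pullback f ι₀)
    (hF1 : F ≫ pullback.fst f ι₀ = pullback.fst f ι₀ ≫ FX)
    (hF2 : F ≫ pullback.snd f ι₀ = pullback.snd f ι₀)
    (W : Set ↥(pullback f ι₀)) (hW : ∀ y ∈ W, F y ∈ W)
    (y y' : ↥(pullback f ι₀)) (hy : y ∈ W) (h : pullback.fst f ι₀ y = pullback.fst f ι₀ y')
    (hx : IsClosed ({pullback.fst f ι₀ y} : Set X)) : y' ∈ W := by
  classical
  haveI := Fintype.ofFinite k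
  haveI : LocallyOfFiniteType (pullback.snd f ι₀) := MorphismProperty.pullback_snd _ _ ‹_›
  have hyc : IsClosed ({y} : Set ↥(pullback f ι₀)) := (isClosed_singleton_iff f y).2 hx
  have hyc' : IsClosed ({y'} : Set ↥(pullback f ι₀)) :=
    (isClosed_singleton_iff f y').2 (h ▸ hx)
  let x := pullback.fst f ι₀ y
  let s := pointOfClosedPoint (pullback.snd f ι₀) y hyc
  let s' := pointOfClosedPoint (pullback.snd f ι₀) y' hyc'
  have hs : s ≫ pullback.snd f ι₀ = 𝟙 _ := pointOfClosedPoint_comp _ _ _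
  have hs' : s' ≫ pullback.snd f ι₀ = 𝟙 _ := pointOfClosedPoint_comp _ _ _
  -- the embeddings of the residue field
  have fac : ∀ (a : Spec (CommRingCat.of kb) ⟶ X),
      a (IsLocalRing.closedPoint kb) = x → ∃ ψ : X.residueField x ⟶ CommRingCat.of kb,
        a = Spec.map ψ ≫ X.fromSpecResidueField x := fun a ha => by
    refine ⟨(X.residueFieldCongr ha.symm).hom ≫ X.descResidueField (Scheme.stalkClosedPointTo a), ?_⟩
    rw [Spec.map_comp, Category.assoc, Scheme.residueFieldCongr_fromSpecResidueField,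
      Scheme.descResidueField_stalkClosedPointTo_fromSpecResidueField]
  obtain ⟨ψ, hψ⟩ := fac (s ≫ pullback.fst f ι₀) (by
    rw [Scheme.Hom.comp_apply, pointOfClosedPoint_apply])
  obtain ⟨ψ', hψ'⟩ := fac (s' ≫ pullback.fst f ι₀) (by
    rw [Scheme.Hom.comp_apply, pointOfClosedPoint_apply, ← h])
  obtain ⟨θ, hθ⟩ := Spec.map_surjective (X.fromSpecResidueField x ≫ f)
  haveI : IsFinite (Spec.map θ) := by
    haveI := isClosed_singleton_iff_isClosedImmersion.1 hx
    rw [hθ, isFinite_iff_locallyOfFiniteType_of_jacobsonSpace]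
    infer_instance
  have hθfin : θ.hom.Finite := (IsFinite.SpecMap_iff _).1 inferInstance
  let L : Type u := X.residueField x
  letI : Algebra k L := θ.hom.toAlgebra
  haveI : Module.Finite k L := hθfin
  haveI : Finite L := Module.finite_of_finite k
  have compat : ∀ (t : Spec (CommRingCat.of kb) ⟶ pullback f ι₀) (χ : X.residueField x ⟶ CommRingCat.of kb),
      t ≫ pullback.snd f ι₀ = 𝟙 _ → t ≫ pullback.fst f ι₀ = Spec.map χ ≫ X.fromSpecResidueField x →
      θ ≫ χ = CommRingCat.ofHom (algebraMap k kb) := fun t χ ht hχ => by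
    apply Spec.map_injective
    rw [Spec.map_comp, hθ, ← Category.assoc, ← hχ, Category.assoc, pullback.condition,
      ← Category.assoc, ht, Category.id_comp]
  let φψ' : L →ₐ[k] kb :=
    { ψ'.hom with commutes' := fun c => congr(($(compat s' ψ' hs' hψ')).hom c) }
  letI : Algebra L kb := ψ.hom.toAlgebra
  haveI : IsScalarTower k L kb :=
    IsScalarTower.of_algebraMap_eq fun c => (congr(($(compat s ψ hs hψ)).hom c)).symm
  let g : L ≃ₐ[k] L := φψ'.restrictNormal' L
  obtain ⟨m, hm⟩ := (FiniteField.bijective_frobeniusAlgEquivOfAlgebraic_pow k L).2 g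
  have hm' : ∀ a : L, g a = a ^ (Nat.card k ^ m.1) := fun a => by
    rw [← hm, Nat.card_eq_fintype_card]
    show (FiniteField.frobeniusAlgEquivOfAlgebraic k L ^ m.1) a = _
    rw [AlgEquiv.coe_pow, FiniteField.coe_frobeniusAlgEquivOfAlgebraic_iterate]
  have hψψ' : ∀ a : L, ψ'.hom a = (ψ.hom a) ^ (Nat.card k ^ m.1) := fun a => by
    rw [← map_pow, ← hm']
    exact (AlgHom.restrictNormal_commutes φψ' L a).symm
  -- iterating Frobenius
  let φ : kb →+* kb := (FiniteField.frobeniusAlgHom k kb).toRingHom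
  have hφ : ∀ c, φ c = c ^ Nat.card k := fun c => by rw [Nat.card_eq_fintype_card]; rfl
  have iter : ∀ n : ℕ, ∃ (z : ↥(pullback f ι₀)) (t : Spec (CommRingCat.of kb) ⟶ pullback f ι₀)
      (χ : X.residueField x ⟶ CommRingCat.of kb), z ∈ W ∧ t (IsLocalRing.closedPoint kb) = z ∧
      t ≫ pullback.snd f ι₀ = 𝟙 _ ∧ t ≫ pullback.fst f ι₀ = Spec.map χ ≫ X.fromSpecResidueField x ∧
      ∀ a : L, χ.hom a = (ψ.hom a) ^ (Nat.card k ^ n) := by
    intro n
    induction n with
    | zero => exact ⟨y, s, ψ, hy, pointOfClosedPoint_apply _ _ _ _, hs, hψ, fun a => by simp⟩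
    | succ n ih =>
      obtain ⟨z, t, χ, hz, htz, ht, hχ, hχn⟩ := ih
      refine ⟨F z, t ≫ F, χ ≫ CommRingCat.ofHom φ, hW z hz, ?_, ?_, ?_, fun a => ?_⟩
      · rw [Scheme.Hom.comp_apply, htz]
      · rw [Category.assoc, hF2, ht]
      · rw [Category.assoc, hF1, ← Category.assoc, comp_absFrob FX hle _ hFapp φ hφ, hχ,
          Spec.map_comp, Category.assoc]
      · show φ (χ.hom a) = _
        rw [hφ, hχn, ← pow_mul, ← pow_succ]
  obtain ⟨z, t, χ, hz, htz, ht, hχ, hχn⟩ := iter m.1
  have hts : t = s' := by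
    apply pullback.hom_ext
    · rw [hχ, hψ']
      congr 2
      ext a
      exact (hχn a).trans (hψψ' a).symm
    · rw [ht, hs']
  rw [hts, pointOfClosedPoint_apply] at htz
  rw [htz]
  exact hz

end Groth.Agent.GalFib
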